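import Groth.Agent.QCoh.DevissageIdeal
import Mathlib.AlgebraicGeometry.Modules.Sheaf

/-!
Modules on a finite disjoint union of open subschemes are the sum of their pieces.
-/

set_option autoImplicit false
set_option backward.isDefEq.respectTransparency false
set_option backward.isDefEq.respectTransparency.types false

universe u

open CategoryTheory CategoryTheory.Limits AlgebraicGeometry TopologicalSpace Opposite

namespace Groth.Agent.AVIsogPush

attribute [local instance] QCoh.hasFiniteBiproducts

variable {Z : Scheme.{u}} {ι : Type u} [Fintype ι] {X : ι → Scheme.{u}} (j : ∀ a, X a ⟶ Z)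
  [∀ a, IsOpenImmersion (j a)]

/-- A module on a finite disjoint union is the sum of the pushforwards of its restrictions. -/
theorem nonempty_iso_biproduct (hd : Pairwise fun a b => Disjoint (Set.range (j a)) (Set.range (j b)))
    (hc : ∀ z : Z, ∃ a, z ∈ Set.range (j a)) (M : Z.Modules) :
    Nonempty (M ≅ ⨁ fun a => (Scheme.Modules.pushforward (j a)).obj (M.restrict (j a))) := by
  classical
  let T : ι → Z.Modules := fun a => (Scheme.Modules.pushforward (j a)).obj (M.restrict (j a))
  let φ : M ⟶ ⨁ T := biproduct.lift fun a => (Scheme.Modules.restrictAdjunction (j a)).unit.app M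
  have hπ : ∀ (U : Z.Opens) (a : ι) (s : Γ(M, U)), (biproduct.π T a).app U (φ.app U s) =
      M.presheaf.map (homOfLE ((j a).image_preimage_le U)).op s := fun U a s =>
    congr(($(biproduct.lift_π (fun a => (Scheme.Modules.restrictAdjunction (j a)).unit.app M) a)).app U s)
  suffices IsIso φ from ⟨asIso φ⟩
  rw [Scheme.Modules.Hom.isIso_iff_isIso_app]
  intro U
  rw [ConcreteCategory.isIso_iff_bijective]
  let W : ι → Z.Opens := fun a => (j a) ''ᵁ ((j a) ⁻¹ᵁ U)
  have hW : ∀ a, W a ≤ U := fun a => (j a).image_preimage_le U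
  have hWU : U ≤ iSup W := fun z hz => by
    obtain ⟨a, y, rfl⟩ := hc z
    exact Opens.mem_iSup.2 ⟨a, y, hz, rfl⟩
  constructor
  · intro s t hst
    refine TopCat.Sheaf.eq_of_locally_eq' ⟨M.presheaf, M.isSheaf⟩ W U (fun a => homOfLE (hW a)) hWU
      s t fun a => ?_
    have := congrArg ((biproduct.π T a).app U) hst
    rw [hπ, hπ] at this
    exact this
  · intro y
    have hcomp : TopCat.Presheaf.IsCompatible M.presheaf W (fun a => (biproduct.π T a).app U y) := fun a b => by
      by_cases hab : a = b
      · subst hab; rfl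
      · have he : W a ⊓ W b = ⊥ := by
          refine le_bot_iff.1 fun z hz => ?_
          obtain ⟨y₁, -, h₁⟩ := hz.1
          obtain ⟨y₂, -, h₂⟩ := hz.2
          exact (Set.disjoint_left.1 (hd hab) ⟨y₁, h₁⟩ ⟨y₂, h₂⟩).elim
        exact TopCat.Sheaf.eq_of_locally_eq' ⟨M.presheaf, M.isSheaf⟩ (fun e : PEmpty.{u + 1} => e.elim) (W a ⊓ W b)
          (fun e => e.elim) (by rw [he]; exact bot_le) _ _ fun e => e.elim
    obtain ⟨s, hs, -⟩ := TopCat.Sheaf.existsUnique_gluing' ⟨M.presheaf, M.isSheaf⟩ W U
      (fun a => homOfLE (hW a)) hWU (fun a => (biproduct.π T a).app U y) hcomp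
    refine ⟨s, ?_⟩
    rw [QCoh.biproduct_app_decomp T U y, QCoh.biproduct_app_decomp T U (φ.app U s)]
    refine Finset.sum_congr rfl fun a _ => congrArg _ ?_
    rw [hπ]
    exact hs a

end Groth.Agent.AVIsogPush
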