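import Groth.Agent.AVTors.Points
import Groth.Agent.AVTors.Torsion
import Groth.Agent.AVFac.Tate
import Groth.Agent.AVIsog3.Basic

/-!
The self fibre product of an etale isogeny is the disjoint union of the graphs of translations by kernel points.
-/

set_option linter.style.haveILetI false
set_option linter.unusedSectionVars false
set_option backward.isDefEq.respectTransparency false
set_option backward.isDefEq.respectTransparency.types false
set_option autoImplicit false

universe u

open CategoryTheory CategoryTheory.Limits MonoidalCategory CartesianMonoidalCategory MonObj AlgebraicGeometry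
open TopologicalSpace

namespace Groth.Agent.AVIsogPush

variable {k : Type u} [Field k] {A B : Over (Spec (CommRingCat.of k))} [GrpObj A] [GrpObj B]

/-- An isogeny in characteristic zero is etale. -/
theorem etale_of_charZero [CharZero k] [IsProper A.hom] [GeometricallyIntegral A.hom]
    [IsProper B.hom] [GeometricallyIntegral B.hom] (π : A ⟶ B) [IsMonHom π] [IsFinite π.left] [Surjective π.left] :
    Etale π.left := by
  obtain ⟨n, g, hn, -, hg, -⟩ := AVIsog3.exists_quasiInverse π
  haveI : Etale (π.left ≫ g.left) := by
    rw [← Over.comp_left, hg]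
    exact AVFac.etale_pow_of_ne_zero A (Nat.cast_ne_zero.2 (by omega))
  haveI : Flat π.left := AVIsog3.flat_of_surjective π
  haveI : LocallyOfFinitePresentation π.left := AVIsog3.lfp_left π
  haveI : FormallyUnramified π.left := FormallyUnramified.of_comp π.left g.left
  exact Etale.of_formallyUnramified_of_flat π.left

variable (π : A ⟶ B) [IsMonHom π]

/-- The kernel points. -/
abbrev KerPts := {a : 𝟙_ (Over (Spec (CommRingCat.of k))) ⟶ A // a ≫ π = 1}

theorem tr_comp (a : KerPts π) : (𝟙 A * (toUnit A ≫ a.1)) ≫ π = π := by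
  rw [MonObj.mul_comp, Category.id_comp, Category.assoc, a.2, MonObj.comp_one, _root_.mul_one]

/-- The graph of translation by a kernel point. -/
noncomputable def graph (a : KerPts π) : A.left ⟶ pullback π.left π.left :=
  pullback.lift (𝟙 A * (toUnit A ≫ a.1)).left (𝟙 A.left)
    (by rw [← Over.comp_left, tr_comp, Category.id_comp])

theorem graph_fst (a : KerPts π) : graph π a ≫ pullback.fst π.left π.left = (𝟙 A * (toUnit A ≫ a.1)).left :=
  pullback.lift_fst _ _ _

theorem graph_snd (a : KerPts π) : graph π a ≫ pullback.snd π.left π.left = 𝟙 A.left :=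
  pullback.lift_snd _ _ _

theorem point_comp_tr (q : 𝟙_ (Over (Spec (CommRingCat.of k))) ⟶ A) (a : 𝟙_ (Over (Spec (CommRingCat.of k))) ⟶ A) :
    q ≫ (𝟙 A * (toUnit A ≫ a)) = q * a := by
  rw [MonObj.comp_mul, Category.comp_id, ← Category.assoc, toUnit_unique (q ≫ toUnit A) (𝟙 _), Category.id_comp]

variable [IsAlgClosed k]

theorem finite_kerPts [IsProper A.hom] [GeometricallyIntegral A.hom] [IsProper B.hom] [GeometricallyIntegral B.hom]
    [IsFinite π.left] [Surjective π.left] [Etale π.left] : Finite (KerPts π) := by
  refine Nat.finite_of_card_ne_zero ?_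
  rw [AVTors.card_fibre π]
  exact (AVIsog3.finrank_pos π _).ne'

variable [Etale π.left]

theorem isOpenImmersion_graph (a : KerPts π) : IsOpenImmersion (graph π a) := by
  haveI : IsSplitMono (graph π a) := ⟨⟨⟨pullback.snd π.left π.left, graph_snd π a⟩⟩⟩
  haveI : Etale (graph π a ≫ pullback.snd π.left π.left) := by rw [graph_snd]; infer_instance
  haveI : Etale (graph π a) := Etale.of_comp (graph π a) (pullback.snd π.left π.left)
  exact IsOpenImmersion.of_flat_of_mono (graph π a)

variable [IsProper A.hom]

theorem disjoint_graph : Pairwise fun a b : KerPts π =>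
    Disjoint (Set.range (graph π a)) (Set.range (graph π b)) := by
  intro a b hab
  refine Set.disjoint_left.2 ?_
  rintro _ ⟨x, rfl⟩ ⟨y, hy⟩
  haveI := isOpenImmersion_graph π b
  haveI : JacobsonSpace A.left := LocallyOfFiniteType.jacobsonSpace A.hom
  obtain ⟨c, hc, hcc⟩ := nonempty_inter_closedPoints
    (Z := graph π a ⁻¹' Set.range (graph π b)) ⟨x, y, hy⟩
    (((graph π b).isOpenEmbedding.isOpen_range).preimage (graph π a).continuous).isLocallyClosed
  obtain ⟨d, hd⟩ := hc
  have hs := congrArg (pullback.snd π.left π.left) hd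
  rw [← Scheme.Hom.comp_apply, ← Scheme.Hom.comp_apply, graph_snd, graph_snd] at hs
  have hdc : d = c := hs
  subst hdc
  have hf := congrArg (pullback.fst π.left π.left) hd
  rw [← Scheme.Hom.comp_apply, ← Scheme.Hom.comp_apply, graph_fst, graph_fst] at hf
  let p := AVFac.ptAt d hcc
  have he : p * b.1 = p * a.1 := by
    rw [← point_comp_tr, ← point_comp_tr]
    refine AVTors.point_injective ?_
    simp only [Over.comp_left, Scheme.Hom.comp_apply]
    rw [AVFac.ptAt_apply]
    exact hf
  exact hab (Subtype.ext (mul_left_cancel he)).symm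

theorem cover_graph [IsProper B.hom] [Finite (KerPts π)] [IsFinite π.left] (z : (pullback π.left π.left : Scheme.{u})) :
    ∃ a : KerPts π, z ∈ Set.range (graph π a) := by
  by_contra h
  let P : Scheme.{u} := pullback π.left π.left
  let q : P ⟶ Spec (CommRingCat.of k) := pullback.fst π.left π.left ≫ A.hom
  haveI : JacobsonSpace P := LocallyOfFiniteType.jacobsonSpace q
  have hcl : IsClosed (⋃ a : KerPts π, Set.range (graph π a)) := by
    refine isClosed_iUnion_of_finite fun a => ?_
    haveI : IsClosedImmersion (graph π a ≫ pullback.snd π.left π.left) := by rw [graph_snd]; infer_instance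
    haveI : IsClosedImmersion (graph π a) := IsClosedImmersion.of_comp (graph π a) (pullback.snd π.left π.left)
    exact (graph π a).isClosedEmbedding.isClosed_range
  obtain ⟨c, hc, hcc⟩ := nonempty_inter_closedPoints (Z := (⋃ a : KerPts π, Set.range (graph π a))ᶜ)
    ⟨z, fun hz => h (Set.mem_iUnion.1 hz)⟩ hcl.isOpen_compl.isLocallyClosed
  let T : Over (Spec (CommRingCat.of k)) := Over.mk q
  haveI : LocallyOfFiniteType T.hom := inferInstanceAs (LocallyOfFiniteType q)
  let r : 𝟙_ (Over (Spec (CommRingCat.of k))) ⟶ T := AVFac.ptAt (X := T) c hcc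
  let p₁ : T ⟶ A := Over.homMk (pullback.fst π.left π.left) rfl
  let p₂ : T ⟶ A := Over.homMk (pullback.snd π.left π.left) (by
    show pullback.snd π.left π.left ≫ A.hom = pullback.fst π.left π.left ≫ A.hom
    rw [← Over.w π, pullback.condition_assoc])
  have hp : (r ≫ p₁) ≫ π = (r ≫ p₂) ≫ π := by
    rw [Category.assoc, Category.assoc]
    exact congrArg (r ≫ ·) (Over.OverMorphism.ext pullback.condition)
  let a : KerPts π := ⟨(r ≫ p₂)⁻¹ * (r ≫ p₁), by
    rw [MonObj.mul_comp, GrpObj.inv_comp, hp, inv_mul_cancel]⟩
  have e : r.left = (r ≫ p₂).left ≫ graph π a := by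
    refine pullback.hom_ext ?_ ?_
    · rw [Category.assoc, graph_fst, ← Over.comp_left, point_comp_tr, mul_inv_cancel_left]
      rfl
    · rw [Category.assoc, graph_snd, Category.comp_id]
      rfl
  exact hc (Set.mem_iUnion.2 ⟨a, _, (congrArg (fun t => t (IsLocalRing.closedPoint k)) e.symm).trans
    (AVFac.ptAt_apply (X := T) c hcc)⟩)

end Groth.Agent.AVIsogPush
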