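import Groth.Agent.AVIsogPush.Decomp
import Groth.Agent.AVIsogPush.Fibre
import Groth.Agent.S0017
import Groth.Agent.QCoh.Pullback
import Groth.Prelude.Def_FlatMod2
import Mathlib.Algebra.Category.ModuleCat.Sheaf.Colimits
import Mathlib.Algebra.Category.ModuleCat.Presheaf.Colimits

/-!
The pullback of the direct image along an isogeny in characteristic zero.
-/

set_option linter.style.haveILetI false
set_option backward.isDefEq.respectTransparency false
set_option backward.isDefEq.respectTransparency.types false
set_option autoImplicit false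

universe u

open CategoryTheory CategoryTheory.Limits MonoidalCategory CartesianMonoidalCategory MonObj GrpObj AlgebraicGeometry

namespace Groth.Agent.AVIsogPush

attribute [local instance] QCoh.hasFiniteBiproducts

/-- Pullback of the direct image along an isogeny is the sum of the translates. -/
theorem nonempty_pullback_pushforward (k : Type u) [Field k] [IsAlgClosed k] [CharZero k]
    (A B : Over (Spec (CommRingCat.of k))) [GrpObj A] [IsProper A.hom] [GeometricallyIntegral A.hom]
    [GrpObj B] [IsProper B.hom] [GeometricallyIntegral B.hom]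
    (π : A ⟶ B) [IsMonHom π] [IsFinite π.left] [Surjective π.left]
    (E : A.left.Modules) (hE : FlatMod.IsFinLocFree E) :
    Nonempty ((Scheme.Modules.pullback π.left).obj ((Scheme.Modules.pushforward π.left).obj E) ≅
      ∐ fun a : KerPts π => (Scheme.Modules.pullback (𝟙 A * (toUnit A ≫ a.1)).left).obj E) := by

  haveI : Etale π.left := etale_of_charZero π
  haveI : Finite (KerPts π) := finite_kerPts π
  letI := Fintype.ofFinite (KerPts π)
  haveI : ∀ a : KerPts π, IsOpenImmersion (graph π a) := isOpenImmersion_graph π
  haveI : Coh.IsQCoh E := QCoh.isQCoh_of_isFinLocFree hE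
  let p₁ := pullback.fst π.left π.left
  let p₂ := pullback.snd π.left π.left
  obtain ⟨e₁⟩ := Groth.Agent.S0017.result π.left π.left p₁ p₂ (IsPullback.of_hasPullback _ _) E
  let M := (Scheme.Modules.pullback p₁).obj E
  obtain ⟨e₂⟩ := nonempty_iso_biproduct (graph π) (disjoint_graph π) (cover_graph π) M
  let T : KerPts π → (pullback π.left π.left : Scheme).Modules := fun a =>
    (Scheme.Modules.pushforward (graph π a)).obj (M.restrict (graph π a))
  have e₃ : ∀ a : KerPts π, (Scheme.Modules.pushforward p₂).obj (T a) ≅
      (Scheme.Modules.pullback (𝟙 A * (toUnit A ≫ a.1)).left).obj E := fun a =>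
    (Scheme.Modules.pushforwardComp (graph π a) p₂).app _ ≪≫
      (Scheme.Modules.pushforwardCongr (graph_snd π a)).app _ ≪≫
      (Scheme.Modules.pushforwardId _).app _ ≪≫
      (Scheme.Modules.restrictFunctorIsoPullback (graph π a)).app M ≪≫
      (Scheme.Modules.pullbackComp (graph π a) p₁).app E ≪≫
      (Scheme.Modules.pullbackCongr (graph_fst π a)).app E
  haveI : PreservesBiproduct T (Scheme.Modules.pushforward p₂) := preservesBiproduct_of_preservesProduct _
  exact ⟨e₁ ≪≫ (Scheme.Modules.pushforward p₂).mapIso e₂ ≪≫ (Scheme.Modules.pushforward p₂).mapBiproduct T ≪≫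
    biproduct.mapIso e₃ ≪≫ biproduct.isoCoproduct _⟩

end Groth.Agent.AVIsogPush
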